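import Mathlib.CategoryTheory.Sites.Point.Basic
import Mathlib.Algebra.Category.Grp.Basic
import Mathlib.CategoryTheory.Limits.Types.Colimits
import Mathlib

/-!
# The fibre of a presheaf of groups at a point, as a group
-/

universe w' w v u

open CategoryTheory Limits Opposite

noncomputable section

namespace Groth.Agent.GrpGodement

variable {C : Type u} [Category.{v} C] {J : GrothendieckTopology C} (Φ : GrothendieckTopology.Point.{w} J)
  [HasColimitsOfSize.{w, w} (Type w')] [PreservesFilteredColimitsOfSize.{w, w} (forget (Type w'))]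
  [LocallySmall.{w} C]
  (F : Cᵒᵖ ⥤ GrpCat.{w'})

/-- The set of germs. -/
abbrev Germ : Type w' := Φ.presheafFiber.obj (F ⋙ forget GrpCat.{w'})

/-- The germ of a section. -/
def germ (U : C) (a : Φ.fiber.obj U) (s : F.obj (op U)) : Germ Φ F :=
  Φ.toPresheafFiber U a (F ⋙ forget GrpCat.{w'}) s

theorem germ_map {U V : C} (g : V ⟶ U) (b : Φ.fiber.obj V) (s : F.obj (op U)) :
    germ Φ F V b (F.map g.op s) = germ Φ F U (Φ.fiber.map g b) s :=
  Φ.toPresheafFiber_w_apply g b (F ⋙ forget GrpCat.{w'}) s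

theorem germ_map' {U V : C} (g : V ⟶ U) {b : Φ.fiber.obj V} {a : Φ.fiber.obj U} (h : Φ.fiber.map g b = a)
    (s : F.obj (op U)) : germ Φ F V b (F.map g.op s) = germ Φ F U a s :=
  h ▸ germ_map Φ F g b s

theorem germ_surjective (z : Germ Φ F) : ∃ U a s, germ Φ F U a s = z :=
  by
  obtain ⟨U, a, s, h⟩ := GrothendieckTopology.Point.toPresheafFiber_jointly_surjective Φ
    (P := F ⋙ forget GrpCat.{w'}) z
  exact ⟨U, a, s, h⟩

theorem germ_eq_iff {U : C} (a : Φ.fiber.obj U) (s t : F.obj (op U)) :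
    germ Φ F U a s = germ Φ F U a t ↔ ∃ (V : C) (g : V ⟶ U) (b : Φ.fiber.obj V),
      Φ.fiber.map g b = a ∧ F.map g.op s = F.map g.op t :=
  Φ.toPresheafFiber_eq_iff' (P := F ⋙ forget GrpCat.{w'}) U a s t

theorem exists_pair (z z' : Germ Φ F) : ∃ U a s t, germ Φ F U a s = z ∧ germ Φ F U a t = z' := by
  obtain ⟨U, a, s, rfl⟩ := germ_surjective Φ F z
  obtain ⟨V, b, t, rfl⟩ := germ_surjective Φ F z'
  obtain ⟨W, p, q, -⟩ := IsCofilteredOrEmpty.cone_objs (Functor.elementsMk Φ.fiber U a) (Functor.elementsMk Φ.fiber V b)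
  exact ⟨W.1, W.2, F.map p.1.op s, F.map q.1.op t, germ_map' Φ F p.1 p.2 s, germ_map' Φ F q.1 q.2 t⟩

theorem germ_mul_eq {U V : C} {a : Φ.fiber.obj U} {b : Φ.fiber.obj V} {s t : F.obj (op U)} {s' t' : F.obj (op V)}
    (hs : germ Φ F U a s = germ Φ F V b s') (ht : germ Φ F U a t = germ Φ F V b t') :
    germ Φ F U a (s * t) = germ Φ F V b (s' * t') := by
  obtain ⟨W, p, q, -⟩ := IsCofilteredOrEmpty.cone_objs (Functor.elementsMk Φ.fiber U a) (Functor.elementsMk Φ.fiber V b)
  have hp : Φ.fiber.map p.1 W.2 = a := p.2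
  have hq : Φ.fiber.map q.1 W.2 = b := q.2
  obtain ⟨W', g, c, hc, e⟩ := (germ_eq_iff Φ F W.2 _ _).1
    ((germ_map' Φ F p.1 hp s).trans (hs.trans (germ_map' Φ F q.1 hq s').symm))
  obtain ⟨W'', g', c', hc', e'⟩ := (germ_eq_iff Φ F c _ _).1
    ((germ_map' Φ F g hc (F.map p.1.op t)).trans
      (((germ_map' Φ F p.1 hp t).trans (ht.trans (germ_map' Φ F q.1 hq t').symm)).trans
        (germ_map' Φ F g hc (F.map q.1.op t')).symm))
  rw [← germ_map' Φ F p.1 hp, ← germ_map' Φ F q.1 hq, ← germ_map' Φ F g hc, ← germ_map' Φ F g hc,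
    ← germ_map' Φ F g' hc', ← germ_map' Φ F g' hc']
  simp only [map_mul, e, e']

instance : Nonempty Φ.fiber.Elements := IsCofiltered.nonempty

instance : One (Germ Φ F) :=
  ⟨germ Φ F (Classical.arbitrary Φ.fiber.Elements).1 (Classical.arbitrary Φ.fiber.Elements).2 1⟩

theorem germ_one (U : C) (a : Φ.fiber.obj U) : germ Φ F U a 1 = 1 := by
  obtain ⟨W, p, q, -⟩ := IsCofilteredOrEmpty.cone_objs (Functor.elementsMk Φ.fiber U a)
    (Classical.arbitrary Φ.fiber.Elements)
  change _ = germ Φ F _ _ 1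
  rw [← germ_map' Φ F p.1 p.2, ← germ_map' Φ F q.1 q.2, map_one, map_one]

instance : Mul (Germ Φ F) :=
  ⟨fun z z' => germ Φ F _ (exists_pair Φ F z z').choose_spec.choose
    ((exists_pair Φ F z z').choose_spec.choose_spec.choose *
      (exists_pair Φ F z z').choose_spec.choose_spec.choose_spec.choose)⟩

theorem germ_mul (U : C) (a : Φ.fiber.obj U) (s t : F.obj (op U)) :
    germ Φ F U a (s * t) = germ Φ F U a s * germ Φ F U a t :=
  (germ_mul_eq Φ F (exists_pair Φ F _ _).choose_spec.choose_spec.choose_spec.choose_spec.1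
    (exists_pair Φ F _ _).choose_spec.choose_spec.choose_spec.choose_spec.2).symm

instance : Inv (Germ Φ F) :=
  ⟨fun z => germ Φ F _ (germ_surjective Φ F z).choose_spec.choose
    ((germ_surjective Φ F z).choose_spec.choose_spec.choose)⁻¹⟩

instance : Group (Germ Φ F) :=
  Group.ofLeftAxioms (fun x y z => by
      obtain ⟨U, a, r, s, rfl, rfl⟩ := exists_pair Φ F x y
      obtain ⟨V, b, t, rfl⟩ := germ_surjective Φ F z
      obtain ⟨W, p, q, -⟩ := IsCofilteredOrEmpty.cone_objs (Functor.elementsMk Φ.fiber U a)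
        (Functor.elementsMk Φ.fiber V b)
      rw [← germ_map' Φ F p.1 p.2 r, ← germ_map' Φ F p.1 p.2 s, ← germ_map' Φ F q.1 q.2 t, ← germ_mul, ← germ_mul,
        ← germ_mul, ← germ_mul, mul_assoc])
    (fun z => by
      obtain ⟨U, a, s, rfl⟩ := germ_surjective Φ F z
      rw [← germ_one Φ F U a, ← germ_mul, one_mul])
    (fun z => by
      conv_lhs => arg 2; rw [← (germ_surjective Φ F z).choose_spec.choose_spec.choose_spec]
      change germ Φ F _ _ _ * _ = _
      rw [← germ_mul, inv_mul_cancel, germ_one])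

/-- The germ homomorphism. -/
def germHom (U : C) (a : Φ.fiber.obj U) : F.obj (op U) →* Germ Φ F where
  toFun := germ Φ F U a
  map_one' := germ_one Φ F U a
  map_mul' := germ_mul Φ F U a

end Groth.Agent.GrpGodement
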