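import Groth.Agent.GrpGodement.Fiber
import Groth.Agent.EtStalk.Conservative
import Groth.Prelude.Def_NonAbH1
import Mathlib

/-!
# Every étale sheaf of groups embeds into one without non-abelian first cohomology
-/

set_option autoImplicit false
set_option backward.isDefEq.respectTransparency false
universe u

open CategoryTheory Limits Opposite AlgebraicGeometry

noncomputable section

namespace Groth.Agent.GrpGodement

variable (X : Scheme.{u})

/-- All geometric points. -/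
structure GPt : Type (u + 1) where
  Ω : Type u
  [field : Field Ω]
  [sep : IsSepClosed Ω]
  ξ : Spec (CommRingCat.of Ω) ⟶ X

variable {X}

/-- The point of the small étale site. -/
def GPt.pt (i : GPt X) : GrothendieckTopology.Point.{u} X.smallEtaleTopology :=
  letI := i.field
  letI := i.sep
  Scheme.pointSmallEtale i.ξ

theorem mem_of_points {U : X.Etale} (S : Sieve U)
    (h : ∀ (i : GPt X) (a : i.pt.fiber.obj U), ∃ (Y : X.Etale) (g : Y ⟶ U) (_ : S g) (y : i.pt.fiber.obj Y),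
      i.pt.fiber.map g y = a) : S ∈ X.smallEtaleTopology U :=
  EtStalk.mem_of_covers EtStalk.covers_all S fun Ω _ _ ξ _ a => h ⟨Ω, ξ⟩ a

variable (F : X.Etaleᵒᵖ ⥤ GrpCat.{u + 1})

/-- The presheaf of all families of germs. -/
def godPre : X.Etaleᵒᵖ ⥤ GrpCat.{u + 1} where
  obj U := GrpCat.of (∀ (i : GPt X), i.pt.fiber.obj U.unop → Germ i.pt F)
  map {U V} f := GrpCat.ofHom
    { toFun := fun g i b => g i (i.pt.fiber.map f.unop b)
      map_one' := rfl
      map_mul' := fun _ _ => rfl }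
  map_id U := by
    ext g i b
    exact congrArg (g i) (FunctorToTypes.map_id_apply _ _)
  map_comp f g := by
    ext s i b
    exact congrArg (s i) (FunctorToTypes.map_comp_apply _ _ _ _)

/-- The value of a family of germs. -/
def ev {F : X.Etaleᵒᵖ ⥤ GrpCat.{u + 1}} {U : X.Etaleᵒᵖ} (g : (godPre F).obj U) (i : GPt X)
    (b : i.pt.fiber.obj U.unop) : Germ i.pt F :=
  g i b

theorem ev_ext {F : X.Etaleᵒᵖ ⥤ GrpCat.{u + 1}} {U : X.Etaleᵒᵖ} {g g' : (godPre F).obj U}
    (h : ∀ i b, ev g i b = ev g' i b) : g = g' :=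
  funext fun i => funext fun b => h i b

theorem ev_map {F : X.Etaleᵒᵖ ⥤ GrpCat.{u + 1}} {U V : X.Etaleᵒᵖ} (f : U ⟶ V) (g : (godPre F).obj U) (i : GPt X)
    (b : i.pt.fiber.obj V.unop) : ev ((godPre F).map f g) i b = ev g i (i.pt.fiber.map f.unop b) :=
  rfl

/-- The family with given values. -/
def mkG {F : X.Etaleᵒᵖ ⥤ GrpCat.{u + 1}} {U : X.Etale} (s : ∀ (i : GPt X), i.pt.fiber.obj U → Germ i.pt F) :
    (godPre F).obj (op U) :=
  s

theorem ev_mkG {F : X.Etaleᵒᵖ ⥤ GrpCat.{u + 1}} {U : X.Etale} (s : ∀ (i : GPt X), i.pt.fiber.obj U → Germ i.pt F)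
    (i : GPt X) (b : i.pt.fiber.obj U) : ev (U := op U) (mkG s) i b = s i b :=
  rfl

theorem ev_mul {F : X.Etaleᵒᵖ ⥤ GrpCat.{u + 1}} {U : X.Etaleᵒᵖ} (g g' : (godPre F).obj U) (i : GPt X)
    (b : i.pt.fiber.obj U.unop) : ev (g * g') i b = ev g i b * ev g' i b :=
  rfl

theorem isSheaf_godPre : Presheaf.IsSheaf X.smallEtaleTopology (godPre F) := by
  rw [Presheaf.isSheaf_iff_isSheaf_forget X.smallEtaleTopology (godPre F) (forget GrpCat.{u + 1})]
  rw [isSheaf_iff_isSheaf_of_type]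
  intro U S hS x hx
  have hlift : ∀ (i : GPt X) (a : i.pt.fiber.obj U), ∃ (Y : X.Etale) (g : Y ⟶ U) (_ : S g) (y : i.pt.fiber.obj Y),
      i.pt.fiber.map g y = a := fun i a => i.pt.jointly_surjective S hS a
  choose Y g hg y hy using hlift
  let s : ∀ (i : GPt X), i.pt.fiber.obj U → Germ i.pt F := fun i a =>
    ev (U := op (Y i a)) (x (g i a) (hg i a)) i (y i a)
  refine ⟨mkG s, fun V f hf => ?_, fun t ht => ?_⟩
  · refine ev_ext (U := op V) fun i b => ?_
    let a := i.pt.fiber.map f b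
    show ev (U := op (Y i a)) (x (g i a) (hg i a)) i (y i a) = _
    obtain ⟨W, p, q, -⟩ := IsCofilteredOrEmpty.cone_objs (Functor.elementsMk i.pt.fiber V b)
      (Functor.elementsMk i.pt.fiber (Y i a) (y i a))
    let E := Functor.elementsMk i.pt.fiber U a
    obtain ⟨W', r, hr⟩ := IsCofilteredOrEmpty.cone_maps (p ≫ (⟨f, rfl⟩ : Functor.elementsMk i.pt.fiber V b ⟶ E))
      (q ≫ (⟨g i a, hy i a⟩ : Functor.elementsMk i.pt.fiber (Y i a) (y i a) ⟶ E))
    have e : ((r ≫ p).1) ≫ f = (r ≫ q).1 ≫ g i a := by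
      have := congrArg Subtype.val hr
      simpa using this
    have := congrArg (fun z => ev (U := op W'.1) z i W'.2) (hx (r ≫ p).1 (r ≫ q).1 hf (hg i a) e)
    change ev (U := op V) (x f hf) i (i.pt.fiber.map (r ≫ p).1 W'.2) =
      ev (U := op (Y i a)) (x (g i a) (hg i a)) i (i.pt.fiber.map (r ≫ q).1 W'.2) at this
    rw [(r ≫ p).2, (r ≫ q).2] at this
    exact this.symm
  · refine ev_ext (U := op U) fun i a => ?_
    have := congrArg (fun z => ev (U := op (Y i a)) z i (y i a)) (ht (g i a) (hg i a))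
    change ev (U := op U) t i (i.pt.fiber.map (g i a) (y i a)) = _ at this
    rw [hy] at this
    exact this

/-- The sheaf of all families of germs. -/
def god (F : X.Etaleᵒᵖ ⥤ GrpCat.{u + 1}) : Sheaf X.smallEtaleTopology GrpCat.{u + 1} := ⟨godPre F, isSheaf_godPre F⟩

/-- The germs of a section. -/
def germs (F : X.Etaleᵒᵖ ⥤ GrpCat.{u + 1}) (U : X.Etaleᵒᵖ) : F.obj U →* (godPre F).obj U where
  toFun s := mkG fun i a => germ i.pt F U.unop a s
  map_one' := ev_ext fun i a => germ_one i.pt F U.unop a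
  map_mul' s t := ev_ext fun i a => germ_mul i.pt F U.unop a s t

theorem germs_natural (F : X.Etaleᵒᵖ ⥤ GrpCat.{u + 1}) {U V : X.Etaleᵒᵖ} (f : U ⟶ V) (s : F.obj U) :
    germs F V (F.map f s) = (godPre F).map f (germs F U s) :=
  ev_ext fun i a => germ_map i.pt F f.unop a s

/-- The map to the germs, on presheaves. -/
def toGodPre (F : X.Etaleᵒᵖ ⥤ GrpCat.{u + 1}) : F ⟶ godPre F where
  app U := GrpCat.ofHom (germs F U)
  naturality _ _ f := by
    ext s
    exact germs_natural F f s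

/-- The map to the germs. -/
def toGod (F : Sheaf X.smallEtaleTopology GrpCat.{u + 1}) : F ⟶ god F.obj := ⟨toGodPre F.obj⟩

theorem toGod_injective (F : Sheaf X.smallEtaleTopology GrpCat.{u + 1}) (U : X.Etaleᵒᵖ) :
    Function.Injective ((toGod F).hom.app U) := by
  intro s t h
  refine ((isSheaf_iff_isSheaf_of_type _ _).1 ((Presheaf.isSheaf_iff_isSheaf_forget X.smallEtaleTopology F.obj
    (forget GrpCat.{u + 1})).1 F.property) (Presheaf.equalizerSieve (F := F.obj) s t)
    (mem_of_points _ fun i a => ?_)).isSeparatedFor.ext fun V f hf => hf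
  obtain ⟨V, g, b, hb, e⟩ := (germ_eq_iff i.pt F.obj a s t).1 (congrArg (fun z => ev (U := U) z i a) h)
  exact ⟨V, g, e, b, hb⟩

/-- Torsors under the germ sheaf have sections. -/
theorem exists_sections (F : X.Etaleᵒᵖ ⥤ GrpCat.{u + 1}) (U : X.Etale) (P : NonAbH1.Torsor ((god F).over U)) : P.toGSheaf.HasSection := by
  obtain ⟨hps, hne⟩ := P.isTorsor
  obtain ⟨S, hS, hsec⟩ := hne (Over.mk (𝟙 U))
  rw [GrothendieckTopology.mem_over_iff] at hS
  have hlift : ∀ (i : GPt X) (a : i.pt.fiber.obj U), ∃ (Y : X.Etale) (g : Y ⟶ U)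
      (_ : (Sieve.overEquiv (Over.mk (𝟙 U)) S) g) (y : i.pt.fiber.obj Y), i.pt.fiber.map g y = a :=
    fun i a => i.pt.jointly_surjective _ hS a
  choose Y g hg y hy using hlift
  have hsec' : ∀ (V : X.Etale) (h : V ⟶ U), (Sieve.overEquiv (Over.mk (𝟙 U)) S) h →
      Nonempty (P.P.obj.obj (op (Over.mk h))) := fun V h hh => by
    have h' := (Sieve.overEquiv_iff S h).1 hh
    simpa using hsec (Over.homMk h : Over.mk (h ≫ (Over.mk (𝟙 U)).hom) ⟶ Over.mk (𝟙 U)) h'
  let ref : ∀ (i : GPt X) (a : i.pt.fiber.obj U), P.P.obj.obj (op (Over.mk (g i a))) := fun i a =>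
    (hsec' _ (g i a) (hg i a)).some
  choose d hd hdu using hps
  let val : ∀ {V : Over U} (_ : ((god F).over U).obj.obj (op V)) (i : GPt X) (_ : i.pt.fiber.obj V.left), Germ i.pt F :=
    fun {V} s i b => ev (F := F) (U := op V.left) s i b
  have pair : ∀ (i : GPt X) (V W : Over U) (b : i.pt.fiber.obj V.left) (c : i.pt.fiber.obj W.left),
      i.pt.fiber.map V.hom b = i.pt.fiber.map W.hom c → ∃ (T : Over U) (p : T ⟶ V) (q : T ⟶ W)
        (t : i.pt.fiber.obj T.left), i.pt.fiber.map p.left t = b ∧ i.pt.fiber.map q.left t = c := by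
    intro i V W b c h
    obtain ⟨Z, p, q, -⟩ := IsCofilteredOrEmpty.cone_objs (Functor.elementsMk i.pt.fiber V.left b)
      (Functor.elementsMk i.pt.fiber W.left c)
    let E := Functor.elementsMk i.pt.fiber U (i.pt.fiber.map W.hom c)
    obtain ⟨Z', r, hr⟩ := IsCofilteredOrEmpty.cone_maps
      (p ≫ (⟨V.hom, h⟩ : Functor.elementsMk i.pt.fiber V.left b ⟶ E))
      (q ≫ (⟨W.hom, rfl⟩ : Functor.elementsMk i.pt.fiber W.left c ⟶ E))
    have e : (r ≫ p).1 ≫ V.hom = (r ≫ q).1 ≫ W.hom := by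
      have := congrArg Subtype.val hr
      simpa using this
    exact ⟨Over.mk ((r ≫ q).1 ≫ W.hom), Over.homMk (r ≫ p).1 e, Over.homMk (r ≫ q).1 rfl, Z'.2, (r ≫ p).2, (r ≫ q).2⟩
  have dmap : ∀ {V T : Over U} (f : T ⟶ V) (s t : P.P.obj.obj (op V)),
      d (op T) (P.P.obj.map f.op s) (P.P.obj.map f.op t) = ((god F).over U).obj.map f.op (d (op V) s t) := by
    intro V T f s t
    refine (hdu _ _ _ _ ?_).symm
    show P.smul _ _ = _
    rw [← P.map_smul, hd]
  have ptwise : ∀ {V T : Over U} (f : T ⟶ V) (s t : P.P.obj.obj (op V)) (i : GPt X) (b : i.pt.fiber.obj T.left),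
      val (d (op T) (P.P.obj.map f.op s) (P.P.obj.map f.op t)) i b = val (d (op V) s t) i (i.pt.fiber.map f.left b) := by
    intro V T f s t i b
    rw [dmap]
    rfl
  have dcomp : ∀ {T : Over U} (p q r : P.P.obj.obj (op T)) (i : GPt X) (b : i.pt.fiber.obj T.left),
      val (d (op T) q r) i b * val (d (op T) p q) i b = val (d (op T) p r) i b := by
    intro T p q r i b
    rw [← hdu (op T) p r (d (op T) q r * d (op T) p q) (by show P.smul _ _ = _; rw [P.mul_smul, hd, hd])]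
    rfl
  -- compare a section with the references
  have hD : ∀ (V : Over U) (s : P.P.obj.obj (op V)) (i : GPt X) (b : i.pt.fiber.obj V.left),
      ∃ z : Germ i.pt F, ∀ (T : Over U) (p : T ⟶ V) (q : T ⟶ Over.mk (g i (i.pt.fiber.map V.hom b)))
        (t : i.pt.fiber.obj T.left), i.pt.fiber.map p.left t = b →
        i.pt.fiber.map q.left t = y i (i.pt.fiber.map V.hom b) →
        val (d (op T) (P.P.obj.map p.op s) (P.P.obj.map q.op (ref i (i.pt.fiber.map V.hom b)))) i t = z := by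
    intro V s i b
    set a := i.pt.fiber.map V.hom b with ha
    obtain ⟨T₀, p₀, q₀, t₀, hp₀, hq₀⟩ := pair i V (Over.mk (g i a)) b (y i a) (hy i a).symm
    refine ⟨val (d (op T₀) (P.P.obj.map p₀.op s) (P.P.obj.map q₀.op (ref i a))) i t₀, fun T p q t hp hq => ?_⟩
    obtain ⟨Z, u, v, -⟩ := IsCofilteredOrEmpty.cone_objs (Functor.elementsMk i.pt.fiber T.left t)
      (Functor.elementsMk i.pt.fiber T₀.left t₀)
    let EV := Functor.elementsMk i.pt.fiber V.left b
    let EY := Functor.elementsMk i.pt.fiber (Y i a) (y i a)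
    obtain ⟨Z₁, r, hr⟩ := IsCofilteredOrEmpty.cone_maps
      (u ≫ (⟨p.left, hp⟩ : Functor.elementsMk i.pt.fiber T.left t ⟶ EV))
      (v ≫ (⟨p₀.left, hp₀⟩ : Functor.elementsMk i.pt.fiber T₀.left t₀ ⟶ EV))
    obtain ⟨Z₂, r', hr'⟩ := IsCofilteredOrEmpty.cone_maps
      ((r ≫ u) ≫ (⟨q.left, hq⟩ : Functor.elementsMk i.pt.fiber T.left t ⟶ EY))
      ((r ≫ v) ≫ (⟨q₀.left, hq₀⟩ : Functor.elementsMk i.pt.fiber T₀.left t₀ ⟶ EY))
    have e1 : (r' ≫ r ≫ u).1 ≫ p.left = (r' ≫ r ≫ v).1 ≫ p₀.left := by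
      have := congrArg (fun k => (r' ≫ k).1) hr
      simpa using this
    have e2 : (r' ≫ r ≫ u).1 ≫ q.left = (r' ≫ r ≫ v).1 ≫ q₀.left := by
      have := congrArg Subtype.val hr'
      simpa using this
    let u' : Over.mk ((r' ≫ r ≫ u).1 ≫ T.hom) ⟶ T := Over.homMk (r' ≫ r ≫ u).1 rfl
    let v' : Over.mk ((r' ≫ r ≫ u).1 ≫ T.hom) ⟶ T₀ := Over.homMk (r' ≫ r ≫ v).1 (by
      show (r' ≫ r ≫ v).1 ≫ T₀.hom = (r' ≫ r ≫ u).1 ≫ T.hom
      rw [← Over.w p, ← Over.w p₀, reassoc_of% e1])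
    have h1 := ptwise u' (P.P.obj.map p.op s) (P.P.obj.map q.op (ref i a)) i Z₂.2
    have h2 := ptwise v' (P.P.obj.map p₀.op s) (P.P.obj.map q₀.op (ref i a)) i Z₂.2
    rw [show i.pt.fiber.map u'.left Z₂.2 = t from (r' ≫ r ≫ u).2] at h1
    rw [show i.pt.fiber.map v'.left Z₂.2 = t₀ from (r' ≫ r ≫ v).2] at h2
    rw [← h1, ← h2]
    simp only [← FunctorToTypes.map_comp_apply, ← op_comp]
    rw [show u' ≫ p = v' ≫ p₀ from Over.OverMorphism.ext e1, show u' ≫ q = v' ≫ q₀ from Over.OverMorphism.ext e2]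
  choose D hDs using hD
  let fix : ∀ (V : Over U), P.P.obj.obj (op V) → P.P.obj.obj (op V) := fun V s =>
    P.smul (mkG (F := F) (U := V.left) fun i b => D V s i b) s
  have fix_indep : ∀ (V : Over U) (s s' : P.P.obj.obj (op V)), fix V s = fix V s' := by
    intro V s s'
    show P.smul _ s = P.smul _ s'
    refine Eq.trans ?_ (congrArg (P.smul _) (hd (op V) s s'))
    rw [← P.mul_smul]
    congr 1
    refine ev_ext (F := F) (U := op V.left) fun i b => ?_
    show D V s i b = D V s' i b * val (d (op V) s s') i b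
    obtain ⟨T, p, q, t, hp, hq⟩ := pair i V (Over.mk (g i (i.pt.fiber.map V.hom b))) b (y i _) (hy i _).symm
    rw [← hDs V s i b T p q t hp hq, ← hDs V s' i b T p q t hp hq, show val (d (op V) s s') i b =
      val (d (op T) (P.P.obj.map p.op s) (P.P.obj.map p.op s')) i t from
      ((ptwise p s s' i t).trans (congrArg _ hp)).symm, dcomp]
  have fix_map : ∀ {V W : Over U} (f : W ⟶ V) (s : P.P.obj.obj (op V)),
      P.P.obj.map f.op (fix V s) = fix W (P.P.obj.map f.op s) := by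
    intro V W f s
    show P.P.obj.map f.op (P.smul _ s) = P.smul _ _
    rw [P.map_smul]
    congr 1
    refine ev_ext (F := F) (U := op W.left) fun i b => ?_
    show D V s i (i.pt.fiber.map f.left b) = D W (P.P.obj.map f.op s) i b
    have ha : i.pt.fiber.map V.hom (i.pt.fiber.map f.left b) = i.pt.fiber.map W.hom b := by
      rw [← FunctorToTypes.map_comp_apply, Over.w f]
    obtain ⟨T, p, q, t, hp, hq⟩ := pair i W (Over.mk (g i (i.pt.fiber.map W.hom b))) b (y i _) (hy i _).symm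
    rw [← hDs W _ i b T p q t hp hq]
    have key : ∀ a (q : T ⟶ Over.mk (g i a)), i.pt.fiber.map V.hom (i.pt.fiber.map f.left b) = a →
        i.pt.fiber.map q.left t = y i a →
        D V s i (i.pt.fiber.map f.left b) =
          val (d (op T) (P.P.obj.map p.op (P.P.obj.map f.op s)) (P.P.obj.map q.op (ref i a))) i t := by
      rintro a q rfl hq
      rw [← hDs V s i _ T (p ≫ f) q t (by rw [Over.comp_left, FunctorToTypes.map_comp_apply, hp]) hq, op_comp,
        FunctorToTypes.map_comp_apply]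
    exact key _ q ha hq
  have hsheaf := (isSheaf_iff_isSheaf_of_type _ _).1 P.P.property
  have glue : ∀ V : Over U, ∃ σ : P.P.obj.obj (op V), ∀ (W : Over U) (f : W ⟶ V) (s : P.P.obj.obj (op W)),
      P.P.obj.map f.op σ = fix W s := by
    intro V
    obtain ⟨R, hR, hRs⟩ := P.isTorsor.2 V
    let x : Presieve.FamilyOfElements P.P.obj R.arrows := fun W f hf => fix W (hRs f hf).some
    have hx : x.Compatible := by
      intro W₁ W₂ T p₁ p₂ f₁ f₂ h₁ h₂ _
      show P.P.obj.map p₁.op (fix _ _) = P.P.obj.map p₂.op (fix _ _)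
      rw [fix_map, fix_map]
      exact fix_indep _ _ _
    refine ⟨(hsheaf R hR).amalgamate x hx, fun W f s => ?_⟩
    refine ((hsheaf (R.pullback f) ((X.smallEtaleTopology.over U).pullback_stable f hR))).isSeparatedFor.ext
      fun T h hh => ?_
    rw [← FunctorToTypes.map_comp_apply, ← op_comp, (hsheaf R hR).valid_glue hx (h ≫ f) hh, fix_map]
    exact fix_indep _ _ _
  choose σ hσ using glue
  refine ⟨fun V => σ V.unop, fun {V W} f => ?_⟩
  refine (hsheaf _ (P.isTorsor.2 W.unop).choose_spec.1).isSeparatedFor.ext fun T h hh => ?_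
  obtain ⟨s⟩ := (P.isTorsor.2 W.unop).choose_spec.2 h hh
  rw [hσ W.unop T h s, ← hσ V.unop T (h ≫ f.unop) s, op_comp, FunctorToTypes.map_comp_apply]
  rfl

end Groth.Agent.GrpGodement
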